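import Cfsg.Agent.H543.PiBS.Gen

/-!
# S3876: coprime action on small groups, counting Sylow subgroups of a Hall subgroup (helper555)
-/

set_option autoImplicit false

namespace Cfsg.Agent.H555.PiBS

open Subgroup Cfsg Cfsg.Agent.H543.PiBS

universe u

variable {G : Type u} [Group G]

/-- adjoining an involution that commutes with `V` -/
def ext2 (V : Subgroup G) (w : G) (hww : w * w = 1) (hc : ∀ v ∈ V, v * w = w * v) : Subgroup G where
  carrier := {x | x ∈ V ∨ x * w ∈ V}
  one_mem' := Or.inl (one_mem _)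
  mul_mem' := by
    rintro a b (ha | ha) (hb | hb)
    · exact Or.inl (mul_mem ha hb)
    · exact Or.inr (by rw [mul_assoc]; exact mul_mem ha hb)
    · refine Or.inr ?_
      rw [mul_assoc, hc b hb, ← mul_assoc]
      exact mul_mem ha hb
    · refine Or.inl ?_
      have h1 : a * b = (a * w) * (b * w) := by
        have h2 : b * w * w = b := by rw [mul_assoc, hww, mul_one]
        rw [mul_assoc, ← hc _ hb, h2]
      rw [h1]
      exact mul_mem ha hb
  inv_mem' := by
    rintro a (ha | ha)
    · exact Or.inl (inv_mem ha)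
    · refine Or.inr ?_
      have h1 : a * w = w * a := by
        have h2 := hc _ ha
        rw [mul_assoc, hww, mul_one] at h2
        conv_rhs => rw [h2]
        rw [← mul_assoc w w, hww, one_mul]
      have h5 : a⁻¹ * w = (a * w)⁻¹ := by
        rw [h1, mul_inv_rev, inv_eq_of_mul_eq_one_left hww]
      rw [h5]
      exact inv_mem ha

theorem mem_ext2 {V : Subgroup G} {w : G} {hww : w * w = 1} {hc : ∀ v ∈ V, v * w = w * v} {x : G} :
    x ∈ ext2 V w hww hc ↔ x ∈ V ∨ x * w ∈ V := Iff.rfl

theorem le_ext2 {V : Subgroup G} {w : G} {hww : w * w = 1} {hc : ∀ v ∈ V, v * w = w * v} :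
    V ≤ ext2 V w hww hc := fun _ hx => Or.inl hx

theorem self_mem_ext2 {V : Subgroup G} {w : G} {hww : w * w = 1} {hc : ∀ v ∈ V, v * w = w * v} :
    w ∈ ext2 V w hww hc := Or.inr (by rw [hww]; exact one_mem _)

/-- the order of the extension -/
theorem card_ext2 [Finite G] {V : Subgroup G} {w : G} {hww : w * w = 1} {hc : ∀ v ∈ V, v * w = w * v}
    (hw : w ∉ V) : Nat.card (ext2 V w hww hc) = 2 * Nat.card V := by
  have h1 : V.relIndex (ext2 V w hww hc) = 2 := by
    show (V.subgroupOf (ext2 V w hww hc)).index = 2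
    rw [Subgroup.index_eq_two_iff]
    refine ⟨⟨w, self_mem_ext2⟩, fun b => ?_⟩
    rw [mem_subgroupOf, mem_subgroupOf]
    show Xor ((b : G) * w ∈ V) ((b : G) ∈ V)
    rcases b.2 with h | h
    · refine Or.inr ⟨h, fun h2 => hw ?_⟩
      exact (mul_mem_cancel_left h).1 h2
    · refine Or.inl ⟨h, fun h2 => hw ?_⟩
      exact (mul_mem_cancel_left h2).1 h
  have h2 := Subgroup.card_mul_index (V.subgroupOf (ext2 V w hww hc))
  rw [show (V.subgroupOf (ext2 V w hww hc)).index = 2 from h1,
    Nat.card_congr (subgroupOfEquivOfLe (le_ext2 (V := V) (hww := hww) (hc := hc))).toEquiv] at h2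
  omega

/-- elements that move generators into the extension normalize it -/
theorem mem_normalizer_ext2 [Finite G] {V : Subgroup G} {w : G} {hww : w * w = 1} {hc : ∀ v ∈ V, v * w = w * v}
    {g : G} (hV : ∀ v ∈ V, g * v * g⁻¹ ∈ ext2 V w hww hc) (hw : g * w * g⁻¹ ∈ ext2 V w hww hc) :
    g ∈ normalizer (ext2 V w hww hc : Set G) := by
  apply mem_normalizer_fintype
  rintro x (hx | hx)
  · exact hV x hx
  · have h1 : x = (x * w) * w := by rw [mul_assoc, hww, mul_one]
    have h2 : g * x * g⁻¹ = (g * (x * w) * g⁻¹) * (g * w * g⁻¹) := by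
      conv_lhs => rw [h1]
      group
    rw [h2]
    exact mul_mem (hV _ hx) hw

/-- fixed points of a coprime action by conjugation -/
theorem fix_card {r : ℕ} (hr : r.Prime) {f : G} (hf : f ^ r = 1) (W : Subgroup G) [Finite W]
    (hn : f ∈ normalizer (W : Set G)) :
    Nat.card W ≡ Nat.card (W ⊓ centralizer {f} : Subgroup G) [MOD r] := by
  have hfr : Fact r.Prime := ⟨hr⟩
  have hn' : ∀ x ∈ zpowers f, x ∈ normalizer (W : Set G) := fun x hx => (zpowers_le.2 hn) hx
  let _ : MulAction (zpowers f) W :=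
    { smul := fun t a => ⟨t * a * (t : G)⁻¹, (mem_normalizer_iff.1 (hn' t t.2) a).1 a.2⟩
      one_smul := fun a => Subtype.ext (by show (1 : G) * a * (1 : G)⁻¹ = a; rw [one_mul, inv_one, mul_one])
      mul_smul := fun s t a => Subtype.ext (by
        show ((s * t : zpowers f) : G) * a * ((s * t : zpowers f) : G)⁻¹ = s * (t * a * (t : G)⁻¹) * (s : G)⁻¹
        rw [Subgroup.coe_mul]; group) }
  have hsm : ∀ (t : zpowers f) (a : W), ((t • a : W) : G) = t * a * (t : G)⁻¹ := fun _ _ => rfl
  have hp : IsPGroup r (zpowers f) := by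
    rintro ⟨x, hx⟩
    obtain ⟨k, rfl⟩ := hx
    refine ⟨1, Subtype.ext ?_⟩
    show (f ^ k) ^ (r ^ 1) = 1
    rw [pow_one, ← zpow_natCast, ← zpow_mul, mul_comm, zpow_mul, zpow_natCast, hf, one_zpow]
  have h1 := hp.card_modEq_card_fixedPoints W
  have h2 : Nat.card (MulAction.fixedPoints (zpowers f) W) = Nat.card (W ⊓ centralizer {f} : Subgroup G) := by
    refine Nat.card_congr ⟨fun x => ⟨(x : W), (x : W).2, ?_⟩, fun x => ⟨⟨x, x.2.1⟩, ?_⟩, ?_, ?_⟩
    · show ((x : W) : G) ∈ centralizer {f}
      rw [mem_centralizer_singleton_iff]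
      have h3 := congrArg Subtype.val (x.2 ⟨f, mem_zpowers f⟩)
      rw [hsm] at h3
      have h4 : f * ((x : W) : G) * f⁻¹ = ((x : W) : G) := h3
      exact (mul_inv_eq_iff_eq_mul.1 h4).symm
    · rintro ⟨t, ht⟩
      apply Subtype.ext
      rw [hsm]
      have h3 : (x : G) * f = f * x := mem_centralizer_singleton_iff.1 x.2.2
      obtain ⟨k, rfl⟩ := ht
      have h4 : Commute (f ^ k) (x : G) := (Commute.zpow_left (show Commute f (x : G) from h3.symm) k)
      show f ^ k * (x : G) * (f ^ k)⁻¹ = x
      rw [h4.eq]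
      group
    · intro x; rfl
    · intro x; rfl
  rwa [h2] at h1

/-- an element of prime order at least 5 normalizing a four-group centralizes it -/
theorem cent_of_four {r : ℕ} (hr : r.Prime) (h5 : 5 ≤ r) {f : G} (hf : f ^ r = 1) {V : Subgroup G}
    (hV : Nat.card V = 4) (hn : f ∈ normalizer (V : Set G)) : V ≤ centralizer {f} := by
  have hfin : Finite V := Nat.finite_of_card_ne_zero (by rw [hV]; norm_num)
  have h1 := fix_card hr hf V hn
  have h2 : Nat.card (V ⊓ centralizer {f} : Subgroup G) ∣ 4 := by rw [← hV]; exact card_dvd_of_le inf_le_left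
  rw [hV] at h1
  have h3 : Nat.card (V ⊓ centralizer {f} : Subgroup G) = 4 := by
    have h4 : Nat.card (V ⊓ centralizer {f} : Subgroup G) ≤ 4 := Nat.le_of_dvd (by norm_num) h2
    have h6 := (Nat.modEq_iff_dvd' h4).1 h1.symm
    have h7 : 4 - Nat.card (V ⊓ centralizer {f} : Subgroup G) = 0 := by
      by_contra h8
      have := Nat.le_of_dvd (Nat.pos_of_ne_zero h8) h6
      omega
    omega
  have h5 : (V ⊓ centralizer {f} : Subgroup G) = V := by
    apply eq_of_le_of_card_ge inf_le_left
    rw [h3, hV]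
  rw [← h5]
  exact inf_le_right

/-- an element of prime order at least 5 normalizing a group of order 8 and centralizing an element centralizes it -/
theorem cent_of_eight {r : ℕ} (hr : r.Prime) (h5 : 5 ≤ r) {f : G} (hf : f ^ r = 1) {W : Subgroup G}
    (hW : Nat.card W = 8) (hn : f ∈ normalizer (W : Set G)) {z : G} (hzW : z ∈ W) (hz1 : z ≠ 1) (hz : z * f = f * z) :
    W ≤ centralizer {f} := by
  have hfin : Finite W := Nat.finite_of_card_ne_zero (by rw [hW]; norm_num)
  have h1 := fix_card hr hf W hn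
  have h2 : Nat.card (W ⊓ centralizer {f} : Subgroup G) ∣ 8 := by rw [← hW]; exact card_dvd_of_le inf_le_left
  rw [hW] at h1
  have h2' : 1 < Nat.card (W ⊓ centralizer {f} : Subgroup G) := by
    have : Finite (W ⊓ centralizer {f} : Subgroup G) := Finite.of_injective _ (inclusion_injective inf_le_left)
    rw [Finite.one_lt_card_iff_nontrivial]
    exact ⟨⟨z, hzW, mem_centralizer_singleton_iff.2 hz⟩, 1, fun h => hz1 (congrArg Subtype.val h)⟩
  have h3 : Nat.card (W ⊓ centralizer {f} : Subgroup G) = 8 := by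
    have h4 : Nat.card (W ⊓ centralizer {f} : Subgroup G) ≤ 8 := Nat.le_of_dvd (by norm_num) h2
    have h6 := (Nat.modEq_iff_dvd' h4).1 h1.symm
    generalize hk : Nat.card (W ⊓ centralizer {f} : Subgroup G) = k at *
    interval_cases k
    · exfalso
      have h9 : r ∣ 2 * 3 := h6
      rcases (hr.dvd_mul).1 h9 with h | h <;> have := Nat.le_of_dvd (by norm_num) h <;> omega
    · norm_num at h2
    · exfalso
      have := Nat.le_of_dvd (by norm_num) h6
      omega
    · norm_num at h2
    · norm_num at h2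
    · norm_num at h2
    · rfl
  have h5 : (W ⊓ centralizer {f} : Subgroup G) = W := by
    apply eq_of_le_of_card_ge inf_le_left
    rw [h3, hW]
  rw [← h5]
  exact inf_le_right

/-- a subgroup of the normalizer of an eight-group whose elements of order at least five fix something -/
theorem isPi_of_eight [Finite G] {π : Set ℕ} (h2 : 2 ∈ π) (h3 : 3 ∈ π) {W X : Subgroup G} (hW : Nat.card W = 8)
    (hno : ∀ f : G, (orderOf f).Prime → 5 ≤ orderOf f → ¬ W ≤ centralizer {f})
    (hX : X ≤ normalizer (W : Set G))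
    (hx : ∀ f ∈ X, (orderOf f).Prime → 5 ≤ orderOf f → ∃ v ∈ W, v ≠ 1 ∧ v * f = f * v) : IsPiSubgroup π X := by
  intro r hr hd
  have hfr : Fact r.Prime := ⟨hr⟩
  rcases Nat.lt_or_ge r 5 with h5 | h5
  · have : r = 2 ∨ r = 3 := by
      have := hr.two_le
      interval_cases r
      · exact Or.inl rfl
      · exact Or.inr rfl
      · exact absurd hr (by norm_num)
    rcases this with rfl | rfl
    · exact h2
    · exact h3
  · exfalso
    obtain ⟨f, hf⟩ := exists_prime_orderOf_dvd_card' r hd
    have hf' : orderOf (f : G) = r := by rw [Subgroup.orderOf_coe, hf]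
    have hp : (orderOf (f : G)).Prime := by rw [hf']; exact hr
    obtain ⟨v, hv, hv1, hc⟩ := hx f f.2 hp (by rw [hf']; exact h5)
    refine hno f hp (by rw [hf']; exact h5) ?_
    exact cent_of_eight hr h5 (by rw [← hf']; exact pow_orderOf_eq_one _) hW (hX f.2) hv hv1 hc

section hall

variable [Finite G] {π : Set ℕ}

omit [Finite G] in
/-- all Hall subgroups have the same order -/
theorem hall_card_eq (hD : DC π G) {H K : Subgroup G} (hH : IsPiHall π H) (hK : IsPiHall π K) :
    Nat.card H = Nat.card K := by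
  obtain ⟨g, hg⟩ := hD.c H K hH hK
  rw [hg, H543.PiBS.card_map_conj]

/-- **The Sylow count**: if `N(P)` is a `π`-group then the order of a Hall subgroup is `n |N(P)|` with `n ≡ 1` mod `r` -/
theorem hall_count (hD : DC π G) {r : ℕ} [hr : Fact r.Prime] (P : Sylow r G)
    (hN : IsPiSubgroup π (normalizer ((P : Subgroup G) : Set G))) {H : Subgroup G} (hH : IsPiHall π H) :
    ∃ n : ℕ, n ≡ 1 [MOD r] ∧ Nat.card H = n * Nat.card (normalizer ((P : Subgroup G) : Set G)) := by
  obtain ⟨K, hK, hle⟩ := hD.d _ hN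
  have hPK : (P : Subgroup G) ≤ K := le_normalizer.trans hle
  let Q : Sylow r K := P.subtype hPK
  refine ⟨Nat.card (Sylow r K), card_sylow_modEq_one r K, ?_⟩
  have h1 : normalizer ((Q : Subgroup K) : Set K) = (normalizer ((P : Subgroup G) : Set G)).subgroupOf K := by
    have h2 : (Q : Subgroup K) = (P : Subgroup G).subgroupOf K := rfl
    rw [h2]
    exact (subgroupOf_normalizer_eq hPK).symm
  have h3 : Nat.card (Sylow r K) = (normalizer ((Q : Subgroup K) : Set K)).index := Sylow.card_eq_index_normalizer Q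
  rw [h3, h1, hall_card_eq hD hH hK]
  have h4 : Nat.card (normalizer ((P : Subgroup G) : Set G)) =
      Nat.card ((normalizer ((P : Subgroup G) : Set G)).subgroupOf K) :=
    (Nat.card_congr (subgroupOfEquivOfLe hle).toEquiv).symm
  rw [h4, mul_comm]
  exact (Subgroup.card_mul_index _).symm

end hall

end Cfsg.Agent.H555.PiBS
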