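import Mathlib

/-!
# S3876: permutations preserving blocks (helper555)
-/

set_option autoImplicit false
set_option maxRecDepth 100000

namespace Cfsg.Agent.H555.PiBS.Blocks

open Equiv Subgroup

variable {α β : Type*}

/-- the permutations preserving the fibres of `b` -/
def Bl (b : α → β) : Subgroup (Perm α) where
  carrier := {σ | ∀ x y, b (σ x) = b (σ y) ↔ b x = b y}
  one_mem' := fun _ _ => Iff.rfl
  mul_mem' := by
    intro σ τ hσ hτ x y
    rw [Perm.mul_apply, Perm.mul_apply, hσ, hτ]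
  inv_mem' := by
    intro σ hσ x y
    have h : ∀ z, σ (σ⁻¹ z) = z := σ.apply_symm_apply
    have := hσ (σ⁻¹ x) (σ⁻¹ y)
    rw [h, h] at this
    exact this.symm

theorem mem_Bl {b : α → β} {σ : Perm α} : σ ∈ Bl b ↔ ∀ x y, b (σ x) = b (σ y) ↔ b x = b y := Iff.rfl

/-- a permutation of prime order `r` preserving the blocks fixes the block of `x` if fewer than `r` blocks are met -/
theorem fix_of_lt [DecidableEq β] {r : ℕ} (hr : r.Prime) {f : Perm α} (hf : f ^ r = 1) {b : α → β} (hb : f ∈ Bl b)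
    {x : α} {S : Finset β} (hS : ∀ k : ℕ, b ((f ^ k) x) ∈ S) (hc : S.card < r) : b (f x) = b x := by
  -- pigeonhole
  obtain ⟨i, hi, j, hj, hij, he⟩ : ∃ i ∈ Finset.range r, ∃ j ∈ Finset.range r, i ≠ j ∧
      b ((f ^ i) x) = b ((f ^ j) x) :=
    Finset.exists_ne_map_eq_of_card_lt_of_maps_to (by rwa [Finset.card_range]) (fun k _ => hS k)
  wlog hlt : i < j generalizing i j
  · exact this j hj i hi hij.symm he.symm (by omega)
  have hi' := Finset.mem_range.1 hi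
  have hj' := Finset.mem_range.1 hj
  -- the shift
  obtain ⟨d, rfl⟩ : ∃ d, j = i + d := ⟨j - i, by omega⟩
  have hd0 : 0 < d := by omega
  have h1 : b ((f ^ d) x) = b x := by
    rw [pow_add, Perm.mul_apply] at he
    exact ((mem_Bl.1 (pow_mem hb i) x ((f ^ d) x)).1 he).symm
  have h2 : ∀ m : ℕ, b ((f ^ (d * m)) x) = b x := by
    intro m
    induction m with
    | zero => rw [mul_zero, pow_zero, Perm.one_apply]
    | succ m ih =>
      have h3 : d * (m + 1) = d + d * m := by ring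
      rw [h3, pow_add, Perm.mul_apply]
      have h4 := (mem_Bl.1 (pow_mem hb d) ((f ^ (d * m)) x) x).2 ih
      rw [h4, h1]
  have hcop : Nat.Coprime d r := by
    rw [Nat.coprime_comm, hr.coprime_iff_not_dvd]
    intro h
    have := Nat.le_of_dvd hd0 h
    omega
  obtain ⟨m, hm⟩ := Nat.exists_mul_mod_eq_one_of_coprime hcop hr.one_lt
  have h5 : f ^ (d * m) = f := by
    have h6 := Nat.div_add_mod (d * m) r
    rw [hm.2] at h6
    rw [← h6, pow_add, pow_mul, hf, one_pow, one_mul, pow_one]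
  have h7 := h2 m
  rwa [h5] at h7

/-- a permutation of prime order `r` preserving the blocks: fewer than `r` blocks, with fewer than `r` elements each -/
theorem eq_one_of_blocks [Fintype α] [DecidableEq α] [Fintype β] [DecidableEq β] {r : ℕ} (hr : r.Prime) {f : Perm α}
    (hf : f ^ r = 1) {b : α → β} (hb : f ∈ Bl b) (h1 : Fintype.card β < r)
    (h2 : ∀ c, (Finset.univ.filter fun x => b x = c).card < r) : f = 1 := by
  have h3 : ∀ x, b (f x) = b x := fun x => fix_of_lt hr hf hb (S := Finset.univ) (fun _ => Finset.mem_univ _) h1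
  have h4 : ∀ (k : ℕ) (x : α), b ((f ^ k) x) = b x := by
    intro k
    induction k with
    | zero => intro x; rfl
    | succ k ih =>
      intro x
      rw [pow_succ, Perm.mul_apply, ih, h3]
  ext x : 1
  exact fix_of_lt (b := id) hr hf (fun y z => by simp) (S := Finset.univ.filter fun y => b y = b x)
    (fun k => by simp [h4 k x]) (h2 _)

/-- orbit and stabilizer -/
theorem card_mul_stab [Finite α] (H : Subgroup (Perm α)) (x : α) {O : Set α} (h1 : ∀ σ ∈ H, σ x ∈ O)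
    (h2 : ∀ y ∈ O, ∃ σ ∈ H, σ x = y) :
    Nat.card H = O.ncard * Nat.card (H ⊓ MulAction.stabilizer (Perm α) x : Subgroup (Perm α)) := by
  have h3 : MulAction.orbit H x = O := by
    ext y
    constructor
    · rintro ⟨σ, rfl⟩
      exact h1 σ σ.2
    · intro hy
      obtain ⟨σ, hσ, rfl⟩ := h2 y hy
      exact ⟨⟨σ, hσ⟩, rfl⟩
  have h4 := MulAction.index_stabilizer H x
  have h5 := Subgroup.card_mul_index (MulAction.stabilizer H x)
  rw [h4, h3] at h5
  rw [← h5, mul_comm]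
  congr 1
  have h6 : MulAction.stabilizer H x = (H ⊓ MulAction.stabilizer (Perm α) x).subgroupOf H := by
    ext σ
    rw [mem_subgroupOf, mem_inf]
    exact ⟨fun h => ⟨σ.2, h⟩, fun h => h.2⟩
  rw [h6]
  exact Nat.card_congr (subgroupOfEquivOfLe inf_le_left).toEquiv

/-! ### `A₈` -/

/-- two blocks -/
def b1 (x : Fin 8) : Fin 2 := ⟨x / 4, by omega⟩
/-- four blocks -/
def b2 (x : Fin 8) : Fin 4 := ⟨x / 2, by omega⟩

/-- the subgroup of odd index -/
def X1 : Subgroup (Perm (Fin 8)) := alternatingGroup (Fin 8) ⊓ Bl b1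
/-- the subgroup of odd index -/
def X2 : Subgroup (Perm (Fin 8)) := alternatingGroup (Fin 8) ⊓ Bl b2

instance (σ : Perm (Fin 8)) : Decidable (σ ∈ Bl b1) := decidable_of_iff (∀ x y, b1 (σ x) = b1 (σ y) ↔ b1 x = b1 y) Iff.rfl
instance (σ : Perm (Fin 8)) : Decidable (σ ∈ Bl b2) := decidable_of_iff (∀ x y, b2 (σ x) = b2 (σ y) ↔ b2 x = b2 y) Iff.rfl

theorem X1_eq_one {r : ℕ} (hr : r.Prime) (h5 : 5 ≤ r) {f : Perm (Fin 8)} (hf : f ^ r = 1) (h : f ∈ X1) : f = 1 :=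
  eq_one_of_blocks hr hf h.2 (by rw [Fintype.card_fin]; omega)
    (fun c => lt_of_le_of_lt (b := 4) (by revert c; decide) (by omega))

theorem X2_eq_one {r : ℕ} (hr : r.Prime) (h5 : 5 ≤ r) {f : Perm (Fin 8)} (hf : f ^ r = 1) (h : f ∈ X2) : f = 1 :=
  eq_one_of_blocks hr hf h.2 (by rw [Fintype.card_fin]; omega)
    (fun c => lt_of_le_of_lt (b := 2) (by revert c; decide) (by omega))

/-- the Sylow 2-subgroup -/
def T8 : Subgroup (Perm (Fin 8)) := X1 ⊓ X2

theorem mem_T8 {σ : Perm (Fin 8)} : σ ∈ T8 ↔ Perm.sign σ = 1 ∧ σ ∈ Bl b1 ∧ σ ∈ Bl b2 := by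
  constructor
  · rintro ⟨⟨h1, h2⟩, -, h3⟩
    exact ⟨h1, h2, h3⟩
  · rintro ⟨h1, h2, h3⟩
    exact ⟨⟨h1, h2⟩, h1, h3⟩

/-- generators of `T8` -/
def gn (k : ℕ) : Perm (Fin 8) :=
  match k with
  | 0 => swap 0 1 * swap 2 3
  | 1 => swap 0 1 * swap 4 5
  | 2 => swap 4 5 * swap 6 7
  | 3 => swap 0 2 * swap 1 3
  | 4 => swap 4 6 * swap 5 7
  | 5 => swap 0 4 * swap 1 5 * (swap 2 6 * swap 3 7)
  | _ => 1

theorem sgn2 {a b c d : Fin 8} (h1 : a ≠ b) (h2 : c ≠ d) : Perm.sign (swap a b * swap c d) = 1 := by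
  rw [Perm.sign_mul, Perm.sign_swap h1, Perm.sign_swap h2]
  decide

theorem gn_T8 (k : ℕ) : gn k ∈ T8 := by
  rw [mem_T8]
  match k with
  | 0 => exact ⟨sgn2 (by decide) (by decide), by decide +kernel, by decide +kernel⟩
  | 1 => exact ⟨sgn2 (by decide) (by decide), by decide +kernel, by decide +kernel⟩
  | 2 => exact ⟨sgn2 (by decide) (by decide), by decide +kernel, by decide +kernel⟩
  | 3 => exact ⟨sgn2 (by decide) (by decide), by decide +kernel, by decide +kernel⟩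
  | 4 => exact ⟨sgn2 (by decide) (by decide), by decide +kernel, by decide +kernel⟩
  | 5 =>
    refine ⟨?_, by decide +kernel, by decide +kernel⟩
    show Perm.sign (swap 0 4 * swap 1 5 * (swap 2 6 * swap 3 7) : Perm (Fin 8)) = 1
    rw [Perm.sign_mul, sgn2 (by decide) (by decide), sgn2 (by decide) (by decide), mul_one]
  | k + 6 => exact ⟨Perm.sign_one, one_mem _, one_mem _⟩

/-- evaluation of a word -/
def wv (w : List ℕ) : Perm (Fin 8) := (w.map gn).prod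

theorem wv_T8 (w : List ℕ) : wv w ∈ T8 := by
  induction w with
  | nil => exact one_mem _
  | cons k w ih => exact mul_mem (gn_T8 k) ih

/-- the words -/
def ws : List (List ℕ) := [[], [0], [3], [0, 3], [5], [1, 5], [4, 5], [4, 1, 5], [0, 1], [1, 0], [2], [4], [2, 4],
  [4, 2], [4, 0, 1], [0, 1, 4], [0, 1, 2], [4, 2, 0, 1], [3, 0], [1, 2], [0, 1, 2, 4], [2, 0, 1, 4]]

theorem orb1 : ∀ y : Fin 8, ∃ w ∈ ws, wv w 0 = y := by decide +kernel
theorem orb2 : ∀ y : Fin 8, y = 2 ∨ y = 3 → ∃ w ∈ ws, wv w 0 = 0 ∧ wv w 2 = y := by decide +kernel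
theorem orb3 : ∀ y : Fin 8, y = 4 ∨ y = 5 ∨ y = 6 ∨ y = 7 → ∃ w ∈ ws, wv w 0 = 0 ∧ wv w 2 = 2 ∧ wv w 4 = y := by
  decide +kernel

theorem dvd_T8 : 64 ∣ Nat.card T8 := by
  have e1 := card_mul_stab T8 0 (O := Set.univ) (fun _ _ => Set.mem_univ _) (fun y _ => by
    obtain ⟨w, -, h⟩ := orb1 y
    exact ⟨_, wv_T8 w, h⟩)
  have e2 := card_mul_stab (T8 ⊓ MulAction.stabilizer (Perm (Fin 8)) (0 : Fin 8)) 2 (O := {2, 3}) (fun σ hσ => by
    have h0 : σ 0 = 0 := hσ.2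
    obtain ⟨-, h1, h2⟩ := mem_T8.1 hσ.1
    have h3 := mem_Bl.1 h1 2 0
    have h4 := mem_Bl.1 h2 2 0
    rw [h0] at h3 h4
    generalize σ 2 = y at *
    revert y
    decide) (fun y hy => by
    obtain ⟨w, -, h0, h⟩ := orb2 y hy
    exact ⟨_, ⟨wv_T8 w, h0⟩, h⟩)
  have e3 := card_mul_stab (T8 ⊓ MulAction.stabilizer (Perm (Fin 8)) (0 : Fin 8) ⊓
      MulAction.stabilizer (Perm (Fin 8)) (2 : Fin 8)) 4 (O := {4, 5, 6, 7}) (fun σ hσ => by
    have h0 : σ 0 = 0 := hσ.1.2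
    obtain ⟨-, h1, h2⟩ := mem_T8.1 hσ.1.1
    have h3 := mem_Bl.1 h1 4 0
    rw [h0] at h3
    generalize σ 4 = y at *
    revert y
    decide) (fun y hy => by
    obtain ⟨w, -, h0, h2, h⟩ := orb3 y hy
    exact ⟨_, ⟨⟨wv_T8 w, h0⟩, h2⟩, h⟩)
  rw [Set.ncard_univ, Nat.card_eq_fintype_card (α := Fin 8), Fintype.card_fin] at e1
  rw [Set.ncard_pair (by decide)] at e2
  have h4 : ({4, 5, 6, 7} : Set (Fin 8)).ncard = 4 := by
    rw [Set.ncard_eq_toFinset_card']
    decide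
  rw [h4] at e3
  rw [e1, e2, e3]
  exact ⟨_, by ring⟩

/-! ### the products -/

theorem mk1 {σ : Perm (Fin 8)} (h : Perm.sign σ = 1) (h2 : σ ∈ Bl b1) : σ ∈ X1 := ⟨h, h2⟩
theorem mk2 {σ : Perm (Fin 8)} (h : Perm.sign σ = 1) (h2 : σ ∈ Bl b2) : σ ∈ X2 := ⟨h, h2⟩

theorem p1_mem : (swap 4 5 * swap 5 6 : Perm (Fin 8)) ∈ X1 := mk1 (sgn2 (by decide) (by decide)) (by decide +kernel)
theorem p2_mem : (swap 2 4 * swap 3 5 : Perm (Fin 8)) ∈ X2 := mk2 (sgn2 (by decide) (by decide)) (by decide +kernel)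
theorem p3_mem : (swap 1 2 * swap 2 3 : Perm (Fin 8)) ∈ X1 := mk1 (sgn2 (by decide) (by decide)) (by decide +kernel)
theorem p4_mem : (swap 2 4 * swap 4 6 * (swap 3 5 * swap 5 7) : Perm (Fin 8)) ∈ X2 := by
  refine mk2 ?_ (by decide +kernel)
  rw [Perm.sign_mul, sgn2 (by decide) (by decide), sgn2 (by decide) (by decide), mul_one]

theorem five : ∃ x ∈ X1, ∃ y ∈ X2, orderOf (x * y) = 5 := by
  have h5 : Fact (Nat.Prime 5) := ⟨by norm_num⟩
  refine ⟨_, p1_mem, _, p2_mem, orderOf_eq_prime ?_ ?_⟩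
  · decide +kernel
  · decide +kernel

theorem seven : ∃ x ∈ X1, ∃ y ∈ X2, orderOf (x * y) = 7 := by
  have h5 : Fact (Nat.Prime 7) := ⟨by norm_num⟩
  refine ⟨_, p3_mem, _, p4_mem, orderOf_eq_prime ?_ ?_⟩
  · decide +kernel
  · decide +kernel

end Cfsg.Agent.H555.PiBS.Blocks
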