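import Cfsg.Agent.TypeM.FactsMcL
import Cfsg.Agent.H799.MTSyl
import Cfsg.Agent.TypeM.FactsAut
import Cfsg.Agent.H173.PiBS.Small
import Cfsg.Agent.H555.PiBS.Elem
import Cfsg.Agent.H555.PiBS.Blocks

/-!
# S3876: the row `McL` (helper555)

`C(t) = 2.A₈` contains a Sylow 2-subgroup `T`; the preimages of `(S₄ ≀ S₂) ∩ A₈` and `(S₂ ≀ S₄) ∩ A₈` are
`{2, 3}`-groups over `T` and generate elements of orders 5 and 7.  There is no subgroup of index 11.
-/

set_option autoImplicit false

namespace Cfsg.Agent.H555.PiBS.McL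

open Cfsg Subgroup Equiv Cfsg.Agent.H543.PiBS Cfsg.Agent.TypeM.Two Cfsg.Agent.SporRec.TwoAn
open Cfsg.Agent.H555.PiBS.Blocks

variable {M : Type*} [Group M] (L : MT 8 M)

/-- the preimage of a subgroup of `A₈` in `C(t)` -/
def pre (H : Subgroup (Perm (Fin 8))) : Subgroup M := (H.comap L.K.π).map (centralizer ({L.t} : Set M)).subtype

theorem pre_mono {H K : Subgroup (Perm (Fin 8))} (h : H ≤ K) : pre L H ≤ pre L K := map_mono (comap_mono h)

theorem pre_le (H : Subgroup (Perm (Fin 8))) : pre L H ≤ centralizer ({L.t} : Set M) := map_subtype_le _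

/-- preimages of `{2, 3}`-groups -/
theorem pi_pre [Finite M] {π : Set ℕ} (h2 : 2 ∈ π) (h3 : 3 ∈ π) {H : Subgroup (Perm (Fin 8))}
    (hH : ∀ {r : ℕ} (_ : r.Prime) (_ : 5 ≤ r) {f : Perm (Fin 8)} (_ : f ^ r = 1) (_ : f ∈ H), f = 1) :
    IsPiSubgroup π (pre L H) := by
  intro r hr hd
  have hfr : Fact r.Prime := ⟨hr⟩
  rcases Nat.lt_or_ge r 5 with h6 | h6
  · have : r = 2 ∨ r = 3 := by
      have := hr.two_le
      interval_cases r
      · exact Or.inl rfl
      · exact Or.inr rfl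
      · exact absurd hr (by norm_num)
    rcases this with rfl | rfl
    · exact h2
    · exact h3
  · exfalso
    obtain ⟨⟨f, hf⟩, ho⟩ := exists_prime_orderOf_dvd_card' r hd
    rw [Subgroup.orderOf_mk] at ho
    obtain ⟨c, hc, rfl⟩ := hf
    have h7 : L.K.π c = 1 := by
      refine hH hr h6 ?_ hc
      have h8 : c ^ r = 1 := by
        apply Subtype.ext
        rw [← ho]
        exact pow_orderOf_eq_one (c : M)
      rw [← map_pow, h8, map_one]
    rcases (L.K.ker c).1 h7 with h8 | h8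
    · rw [h8, map_one, orderOf_one] at ho
      omega
    · rw [h8] at ho
      have h9 : (centralizer ({L.t} : Set M)).subtype L.K.z = L.t := L.hz
      rw [h9, L.orderOf_t] at ho
      omega

/-- a Sylow 2-subgroup in the preimage of `T8` -/
theorem exists_T [Finite M] (hc : Nat.card M = 898128000) : ∃ T : Sylow 2 M, (T : Subgroup M) ≤ pre L T8 := by
  have hF : Fact (Nat.Prime 2) := ⟨Nat.prime_two⟩
  have h0 : Nat.card (centralizer ({L.t} : Set M)) = 40320 := by
    rw [TypeM.FactsAut.card_centralizer L (by norm_num)]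
    decide
  have h1 := Subgroup.card_mul_index (centralizer ({L.t} : Set M))
  rw [h0, hc] at h1
  -- the index of the preimage in `C(t)`
  have h2 : ((T8).comap L.K.π).index ∣ 315 := by
    rw [index_comap, L.K.range_eq]
    have h3 := Subgroup.card_mul_index (T8.subgroupOf (alternatingGroup (Fin 8)))
    have h4 : T8 ≤ alternatingGroup (Fin 8) := inf_le_left.trans inf_le_left
    rw [Nat.card_congr (subgroupOfEquivOfLe h4).toEquiv] at h3
    have h5 : Nat.card (alternatingGroup (Fin 8)) = 64 * 315 := by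
      have := two_mul_nat_card_alternatingGroup (α := Fin 8)
      rw [Nat.card_perm, Nat.card_fin] at this
      have h6 : Nat.factorial 8 = 40320 := by decide
      omega
    rw [h5] at h3
    obtain ⟨k, hk⟩ := dvd_T8
    rw [hk] at h3
    refine ⟨k, ?_⟩
    show 315 = (T8.subgroupOf (alternatingGroup (Fin 8))).index * k
    nlinarith
  have h3 : (pre L T8).index ∣ 315 * 22275 := by
    rw [pre, index_map_subtype]
    refine mul_dvd_mul h2 ?_
    have : (centralizer ({L.t} : Set M)).index = 22275 := by omega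
    rw [this]
  have h4 : ¬ 2 ∣ (pre L T8).index := fun h => by
    have := h.trans h3
    norm_num at this
  obtain ⟨T⟩ : Nonempty (Sylow 2 M) := inferInstance
  obtain ⟨g, hg⟩ := (⟨fun p _ _ => Set.mem_univ p, h4⟩ : H841.PiBS.OddPi Set.univ (pre L T8)).exists_sylow T
  refine ⟨g • T, ?_⟩
  rw [Sylow.coe_subgroup_smul]
  exact hg

/-- elements of the join of the preimages -/
theorem exists_mem {x y : Perm (Fin 8)} (hx : x ∈ X1) (hy : y ∈ X2) :
    ∃ u ∈ pre L X1 ⊔ pre L X2, orderOf (x * y) ∣ orderOf u := by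
  have hx' : x ∈ L.K.π.range := by rw [L.K.range_eq]; exact hx.1
  have hy' : y ∈ L.K.π.range := by rw [L.K.range_eq]; exact hy.1
  obtain ⟨a, rfl⟩ := hx'
  obtain ⟨b, rfl⟩ := hy'
  refine ⟨a * b, mul_mem (mem_sup_left ⟨a, hx, rfl⟩) (mem_sup_right ⟨b, hy, rfl⟩), ?_⟩
  rw [← map_mul, ← Subgroup.coe_mul, Subgroup.orderOf_coe]
  exact orderOf_map_dvd _ _

include L in
theorem five_seven [Finite M] (hc : Nat.card M = 898128000) {π : Set ℕ} (h2 : 2 ∈ π) (h3 : 3 ∈ π) (hD : DC π M) :
    5 ∈ π ∧ 7 ∈ π := by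
  have hF : Fact (Nat.Prime 2) := ⟨Nat.prime_two⟩
  obtain ⟨T, hT⟩ := exists_T L hc
  have hN : IsPiSubgroup π (normalizer ((T : Subgroup M) : Set M)) := by
    refine pi_mono (H799.MTSyl.normalizer_le (by norm_num) (by norm_num) L T) ?_
    intro p hp hd
    obtain ⟨n, hn⟩ := IsPGroup.iff_card.1 T.isPGroup'
    rw [hn] at hd
    rw [(Nat.prime_dvd_prime_iff_eq hp Nat.prime_two).1 (hp.dvd_of_dvd_pow hd)]
    exact h2
  have h1 := hD.sup_overgroups T hN (pi_pre L h2 h3 X1_eq_one) (pi_pre L h2 h3 X2_eq_one)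
    (hT.trans (pre_mono L inf_le_left)) (hT.trans (pre_mono L inf_le_right))
  have key : ∀ r : ℕ, r.Prime → (∃ x ∈ X1, ∃ y ∈ X2, orderOf (x * y) = r) → r ∈ π := by
    rintro r hr ⟨x, hx, y, hy, ho⟩
    obtain ⟨u, hu, hd⟩ := exists_mem L hx hy
    rw [ho] at hd
    refine h1 r hr (hd.trans ?_)
    rw [← Subgroup.orderOf_mk u hu]
    exact orderOf_dvd_natCard _
  exact ⟨key 5 (by norm_num) Blocks.five, key 7 (by norm_num) Blocks.seven⟩

theorem row_McL {S : Type*} [Group S] [Finite S] (h : Cfsg.Spor.IsoMcL S) {π : Set ℕ} (h2 : 2 ∈ π) (h3 : 3 ∈ π)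
    (hD : DC π S) : PiGrp π S := by
  obtain ⟨-, hs, hc, ⟨L⟩⟩ := TypeM.FactsMcL.facts h
  obtain ⟨h5, h7⟩ := five_seven L hc h2 h3 hD
  have h11 : 11 ∈ π := by
    by_contra h11
    obtain ⟨H, hH⟩ := hD.exists_hall
    have hmul := Subgroup.card_mul_index H
    rw [hc] at hmul
    have hno : ∀ p : ℕ, p.Prime → p ∈ π → Nat.Coprime H.index p := fun p hp hpi =>
      ((Nat.Prime.coprime_iff_not_dvd hp).2 fun hd => hH.2 p hp hpi hd).symm
    have hd : H.index ∣ 2 ^ 7 * (3 ^ 6 * (5 ^ 3 * (7 * 11))) := ⟨Nat.card H, by rw [mul_comm H.index]; exact hmul.symm⟩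
    have hd' : H.index ∣ 11 := (hno 7 (by norm_num) h7).dvd_of_dvd_mul_left
      (((hno 5 (by norm_num) h5).pow_right 3).dvd_of_dvd_mul_left
        (((hno 3 (by norm_num) h3).pow_right 6).dvd_of_dvd_mul_left
          (((hno 2 (by norm_num) h2).pow_right 7).dvd_of_dvd_mul_left hd)))
    have hne : H.index ≠ 1 := by
      intro h1
      rw [h1, mul_one] at hmul
      exact h11 (hH.1 11 (by norm_num) (by rw [hmul]; norm_num))
    have h11' : H.index = 11 := ((Nat.dvd_prime (by norm_num)).1 hd').resolve_left hne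
    have hcore : H.normalCore = ⊥ := by
      rcases Subgroup.Normal.eq_bot_or_eq_top (inferInstance : H.normalCore.Normal) with h | h
      · exact h
      · exfalso
        have h6 : H = ⊤ := top_le_iff.1 (h ▸ H.normalCore_le)
        rw [h6, index_top] at h11'
        norm_num at h11'
    have h8 := H173.PiBS.card_dvd_factorial H hcore
    rw [h11', hc] at h8
    have h9 := Nat.le_of_dvd (by positivity) h8
    have h10 : Nat.factorial 11 = 39916800 := by decide
    omega
  intro p hp hd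
  rw [hc] at hd
  have hd : p ∣ 2 ^ 7 * (3 ^ 6 * (5 ^ 3 * (7 * 11))) := hd
  have key : ∀ {q : ℕ} (_ : q.Prime) (_ : q ∈ π) (_ : p ∣ q), p ∈ π := fun hq hqπ h => by
    rw [(Nat.prime_dvd_prime_iff_eq hp hq).1 h]; exact hqπ
  rcases hp.dvd_mul.1 hd with h | h
  · exact key Nat.prime_two h2 (hp.dvd_of_dvd_pow h)
  rcases hp.dvd_mul.1 h with h | h
  · exact key Nat.prime_three h3 (hp.dvd_of_dvd_pow h)
  rcases hp.dvd_mul.1 h with h | h
  · exact key Nat.prime_five h5 (hp.dvd_of_dvd_pow h)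
  rcases hp.dvd_mul.1 h with h | h
  · exact key (by norm_num) h7 h
  · exact key (by norm_num) h11 h

end Cfsg.Agent.H555.PiBS.McL
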