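import Cfsg.Agent.QTUnique.HS
import Cfsg.Agent.QTNorm.SporHS
import Cfsg.Agent.CpAutHSFive.Row
import Cfsg.Agent.H846.PB.HS
import Cfsg.Agent.Cit.CoresClose
import Cfsg.Agent.H555.PiBS.Elem

/-!
# S3876: the row `HS` (helper555)

`T` is a Sylow 2-subgroup, `z` its central involution, `V = ⟨z, y⟩`, `W = ⟨z, y, w⟩` are normalized by `T`.
* `5 ∈ π`: `C(z)` (order 7680) and `N(V)` are `π`-groups and generate `HS`.
* `5 ∉ π`: `C(z) ∩ N(W)` and `N(V) ∩ N(W)` are `{2, 3}`-groups, they generate an element of order 7; then a Hall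
  subgroup of order `2^9 3^2 7 (11)` does not satisfy Sylow's theorem at 7.
-/

set_option autoImplicit false
set_option maxRecDepth 100000

namespace Cfsg.Agent.H555.PiBS.HS

open Cfsg Subgroup Cfsg.Agent.HN Cfsg.Agent.HN.Pres Cfsg.Agent.HN.HS100 Cfsg.Agent.HN.H0Basic Cfsg.Agent.HN.P1408
open Cfsg.Agent.HN.Classes Cfsg.Agent.HN.WMask Cfsg.Agent.KFacts.HS Cfsg.Agent.KFacts.HS.Cent
open Cfsg.Agent.QTUnique Cfsg.Agent.QTUnique.HS Cfsg.Agent.H543.PiBS

/-- the word of `w` -/
def ww : List ℕ := Syl.sw 5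

/-- an element of order 3 of `C(z) ∩ N(W)` -/
def g1w : List ℕ := [2,0,4,3,0,4,3,1,4,3,0,2,2,0,2,2,2,0,3,4,3,1,3,0,4,3,0,4,3,1,4,3,0,2,2,0,2,2,2,0,3,4,3,1,3]

/-- the words of the elements of `W` -/
def els : List (List ℕ) := [[], zw, yw, zw ++ yw, ww, zw ++ ww, yw ++ ww, zw ++ yw ++ ww]

theorem chkw : (∀ i < 100, t1 (ww ++ ww) i = t1 [] i) ∧ (∀ i < 100, t1 (zw ++ ww) i = t1 (ww ++ zw) i) ∧
    (∀ i < 100, t1 (yw ++ ww) i = t1 (ww ++ yw) i) := by decide +kernel

/-- `g` conjugates the generators of `W` into `W` -/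
def nW (g : List ℕ) : Prop :=
  (∃ e ∈ els, ∀ i < 100, t1 (g ++ zw) i = t1 (e ++ g) i) ∧ (∃ e ∈ els, ∀ i < 100, t1 (g ++ yw) i = t1 (e ++ g) i) ∧
    ∃ e ∈ els, ∀ i < 100, t1 (g ++ ww) i = t1 (e ++ g) i

instance (g : List ℕ) : Decidable (nW g) := by unfold nW; infer_instance

/-- an element of order 3 of `N(V) ∩ N(W)` -/
def g2w : List ℕ := Cfsg.Agent.QTUnique.HS.gw

theorem chkT : ∀ k < 11, nW (Syl.sw k) := by decide +kernel

theorem chkg : nW g2w ∧ nW g1w := by decide +kernel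

theorem chkz : ∀ i < 100, t1 (g1w ++ zw) i = t1 (zw ++ g1w) i := by decide +kernel

theorem chkv : (∃ i < 100, t1 ww i ≠ t1 [] i) ∧ (∃ i < 100, t1 ww i ≠ t1 zw i) ∧ (∃ i < 100, t1 ww i ≠ t1 yw i) ∧
    (∃ i < 100, t1 ww i ≠ t1 (zw ++ yw) i) := by decide +kernel

/-- the word of an element of order 7 -/
def pw : List ℕ := g1w ++ g2w

theorem chk7' : ∀ i < 100, t1 (pw ++ pw ++ pw ++ pw ++ pw ++ pw ++ pw) i = t1 [] i := by decide +kernel

theorem chk71 : ∃ i < 100, t1 pw i ≠ t1 [] i := by decide +kernel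

theorem φ_ne_of {u v : List ℕ} (h : ∃ i < 100, t1 u i ≠ t1 v i) : φ (hw u) ≠ φ (hw v) := by
  obtain ⟨i, hi, hne⟩ := h
  intro e
  apply hne
  have h1 := congrArg (fun f : Equiv.Perm (Fin 100) => ((f ⟨i, hi⟩ : Fin 100) : ℕ)) e
  exact (φ_hw_apply u ⟨i, hi⟩).symm.trans (h1.trans (φ_hw_apply v ⟨i, hi⟩))

theorem card_four {G : Type*} [Group G] {t w : G} {htt : t * t = 1} {hww : w * w = 1} {hc : t * w = w * t} (h1 : t ≠ 1)
    (h2 : w ≠ 1) (h3 : w ≠ t) : Nat.card (four t w htt hww hc) = 4 := by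
  have e : (four t w htt hww hc : Set G) = {1, t, w, t * w} := rfl
  have h4 : t * w ≠ 1 := fun h => h3 (by
    have := congrArg (fun x => t * x) h
    simp only [← mul_assoc, htt, one_mul, mul_one] at this
    exact this)
  rw [← SetLike.coe_sort_coe, Nat.card_coe_set_eq, e, Set.ncard_insert_of_notMem, Set.ncard_insert_of_notMem,
    Set.ncard_insert_of_notMem, Set.ncard_singleton]
  · simp only [Set.mem_singleton_iff]
    intro h
    exact h1 (mul_eq_right.1 h.symm)
  · simp only [Set.mem_insert_iff, Set.mem_singleton_iff]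
    rintro (h | h)
    · exact h3 h.symm
    · exact h2 (mul_eq_left.1 h.symm)
  · simp only [Set.mem_insert_iff, Set.mem_singleton_iff]
    rintro (h | h | h)
    · exact h1 h.symm
    · exact h2 h.symm
    · exact h4 h.symm

theorem wsq : φ (hw ww) * φ (hw ww) = 1 := by
  rw [← map_mul, ← hw_append, φ_eq_of chkw.1, hw_nil, map_one]

theorem zwc : φ (hw zw) * φ (hw ww) = φ (hw ww) * φ (hw zw) := by
  rw [← map_mul, ← map_mul, ← hw_append, ← hw_append, φ_eq_of chkw.2.1]

theorem ywc : φ (hw yw) * φ (hw ww) = φ (hw ww) * φ (hw yw) := by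
  rw [← map_mul, ← map_mul, ← hw_append, ← hw_append, φ_eq_of chkw.2.2]

theorem Vcomm : ∀ v ∈ V, v * φ (hw ww) = φ (hw ww) * v := by
  rintro v (rfl | rfl | rfl | rfl)
  · rw [one_mul, mul_one]
  · exact zwc
  · exact ywc
  · rw [mul_assoc, ywc, ← mul_assoc, zwc, mul_assoc]

/-- the group of order 8 -/
def W : Subgroup (Equiv.Perm (Fin 100)) := ext2 V (φ (hw ww)) wsq Vcomm

theorem z_mem : φ (hw zw) ∈ V := Or.inr (Or.inl rfl)
theorem y_mem : φ (hw yw) ∈ V := Or.inr (Or.inr (Or.inl rfl))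

theorem mem_of_els {e : List ℕ} (he : e ∈ els) : φ (hw e) ∈ W := by
  have hz : φ (hw zw) ∈ W := le_ext2 z_mem
  have hy : φ (hw yw) ∈ W := le_ext2 y_mem
  have hww : φ (hw ww) ∈ W := self_mem_ext2
  simp only [els, List.mem_cons, List.not_mem_nil, or_false] at he
  rcases he with rfl | rfl | rfl | rfl | rfl | rfl | rfl | rfl
  · rw [hw_nil, map_one]; exact one_mem _
  · exact hz
  · exact hy
  · rw [hw_append, map_mul]; exact mul_mem hz hy
  · exact hww
  · rw [hw_append, map_mul]; exact mul_mem hz hww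
  · rw [hw_append, map_mul]; exact mul_mem hy hww
  · rw [hw_append, hw_append, map_mul, map_mul]; exact mul_mem (mul_mem hz hy) hww

theorem norm_W {g : List ℕ} (h : nW g) : φ (hw g) ∈ normalizer (W : Set (Equiv.Perm (Fin 100))) := by
  obtain ⟨⟨e1, he1, h1⟩, ⟨e2, he2, h2⟩, ⟨e3, he3, h3⟩⟩ := h
  have hz : φ (hw g) * φ (hw zw) * (φ (hw g))⁻¹ ∈ W := by rw [conj_of_word h1]; exact mem_of_els he1
  have hy : φ (hw g) * φ (hw yw) * (φ (hw g))⁻¹ ∈ W := by rw [conj_of_word h2]; exact mem_of_els he2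
  have hww : φ (hw g) * φ (hw ww) * (φ (hw g))⁻¹ ∈ W := by rw [conj_of_word h3]; exact mem_of_els he3
  refine mem_normalizer_ext2 ?_ hww
  rintro v (rfl | rfl | rfl | rfl)
  · rw [mul_one, mul_inv_cancel]; exact one_mem _
  · exact hz
  · exact hy
  · have e : φ (hw g) * (φ (hw zw) * φ (hw yw)) * (φ (hw g))⁻¹ =
        (φ (hw g) * φ (hw zw) * (φ (hw g))⁻¹) * (φ (hw g) * φ (hw yw) * (φ (hw g))⁻¹) := by group
    rw [e]
    exact mul_mem hz hy

theorem z_ne_one : φ (hw zw) ≠ 1 := by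
  have h1 : ∃ i < 100, t1 zw i ≠ t1 [] i := by decide +kernel
  have := φ_ne_of h1
  rwa [hw_nil, map_one] at this

theorem card_V : Nat.card V = 4 := card_four z_ne_one y_ne_one y_ne_z

theorem w_notMem : φ (hw ww) ∉ V := by
  rintro (h | h | h | h)
  · apply φ_ne_of chkv.1
    rw [h, hw_nil, map_one]
  · exact φ_ne_of chkv.2.1 h
  · exact φ_ne_of chkv.2.2.1 h
  · apply φ_ne_of chkv.2.2.2
    rw [h, hw_append, map_mul]

theorem card_W : Nat.card W = 8 := by
  rw [W, card_ext2 w_notMem, card_V]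

section

variable {L : Type*} [Group L] (D : KFacts.HS.Mod L)

/-- the group of order 8 in `L` -/
noncomputable def WL : Subgroup L := W.comap D.φL

theorem range_of_word {w : List ℕ} (ho : okw w = true) (hp : par w = false) : φ (hw w) ∈ D.φL.range :=
  ⟨D.π ⟨hw w, mem_K_of_par ho hp⟩, D.φL_π _⟩

theorem V_le_range : V ≤ D.φL.range := by
  have hz : φ (hw zw) ∈ D.φL.range := range_of_word D (by decide) (by decide)
  have hy : φ (hw yw) ∈ D.φL.range := range_of_word D (by decide) (by decide)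
  rintro v (rfl | rfl | rfl | rfl)
  · exact one_mem _
  · exact hz
  · exact hy
  · exact mul_mem hz hy

theorem W_le_range : W ≤ D.φL.range := by
  have hww : φ (hw ww) ∈ D.φL.range := range_of_word D (by decide) (by decide)
  rintro v (hv | hv)
  · exact V_le_range D hv
  · exact (mul_mem_cancel_right hww).1 (V_le_range D hv)

theorem card_comap {H : Subgroup (Equiv.Perm (Fin 100))} (h : H ≤ D.φL.range) :
    Nat.card (H.comap D.φL) = Nat.card H := by
  rw [Nat.card_congr ((H.comap D.φL).equivMapOfInjective D.φL D.φL_inj).toEquiv, map_comap_eq_self h]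

theorem card_WL : Nat.card (WL D) = 8 := by rw [WL, card_comap D (W_le_range D), card_W]

theorem card_VL : Nat.card (VL D) = 4 := by rw [VL, card_comap D (V_le_range D), card_V]

theorem norm_WL {x : L} (hx : D.φL x ∈ normalizer (W : Set (Equiv.Perm (Fin 100)))) :
    x ∈ normalizer (WL D : Set L) := by
  rw [mem_normalizer_iff] at hx ⊢
  intro y
  have := hx (D.φL y)
  rw [← map_mul, ← map_inv, ← map_mul] at this
  exact this

theorem T_le_W : (T D : Subgroup L) ≤ normalizer (WL D : Set L) := by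
  have h : Syl.S ≤ (normalizer (W : Set (Equiv.Perm (Fin 100)))).comap φ := by
    show Subgroup.closure _ ≤ _
    rw [Subgroup.closure_le]
    rintro _ ⟨k, hk, rfl⟩
    exact norm_W (chkT k hk)
  rintro _ ⟨s, hs, rfl⟩
  apply norm_WL
  rw [show D.φL (D.π s) = φ s from D.φL_π s]
  exact h (FusK0.mem_S0.1 hs)

theorem g1_K : hw g1w ∈ K := mem_K_of_par (by decide) (by decide)
theorem g2_K : hw g2w ∈ K := mem_K_of_par (by decide) (by decide)

/-- the element of order 3 in `C(z) ∩ N(W)` -/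
def g1 : L := D.π ⟨hw g1w, g1_K⟩
/-- the element of order 3 in `N(V) ∩ N(W)` -/
def g2 : L := D.π ⟨hw g2w, g2_K⟩

theorem φg1 : D.φL (g1 D) = φ (hw g1w) := D.φL_π _
theorem φg2 : D.φL (g2 D) = φ (hw g2w) := D.φL_π _

/-- the first `{2, 3}`-group -/
noncomputable def P1 : Subgroup L := centralizer {D.z} ⊓ normalizer (WL D : Set L)
/-- the second `{2, 3}`-group -/
noncomputable def P2 : Subgroup L := normalizer (VL D : Set L) ⊓ normalizer (WL D : Set L)

theorem T_le_C : (T D : Subgroup L) ≤ centralizer {D.z} := fun _ hx => mem_centralizer_singleton_iff.2 (T_z D hx)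

theorem T_le_P1 : (T D : Subgroup L) ≤ P1 D := le_inf (T_le_C D) (T_le_W D)
theorem T_le_P2 : (T D : Subgroup L) ≤ P2 D := le_inf (T_le D) (T_le_W D)

theorem g1_mem : g1 D ∈ P1 D := by
  refine ⟨mem_centralizer_singleton_iff.2 (D.φL_inj ?_), norm_WL D (by rw [φg1]; exact norm_W chkg.2)⟩
  rw [map_mul, map_mul, φg1, φL_z, ← map_mul, ← map_mul, ← hw_append, ← hw_append]
  exact φ_eq_of chkz

theorem g2_mem : g2 D ∈ P2 D :=
  ⟨gL_mem D, norm_WL D (by rw [φg2]; exact norm_W chkg.1)⟩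

theorem order_seven : orderOf (g1 D * g2 D) = 7 := by
  have h7 : Fact (Nat.Prime 7) := ⟨by norm_num⟩
  have hp : D.φL (g1 D * g2 D) = φ (hw pw) := by rw [map_mul, φg1, φg2, pw, hw_append, map_mul]
  refine orderOf_eq_prime (D.φL_inj ?_) fun h => ?_
  · rw [map_pow, hp, map_one]
    have h1 := φ_eq_of chk7'
    rw [hw_append, hw_append, hw_append, hw_append, hw_append, hw_append, hw_nil, map_one] at h1
    simp only [map_mul] at h1
    rw [← h1]
    simp only [pow_succ, pow_zero, one_mul]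
  · rw [h, map_one] at hp
    apply φ_ne_of chk71
    rw [← hp, hw_nil, map_one]

theorem z_mem_VL : D.z ∈ VL D := by
  show D.φL D.z ∈ V
  rw [φL_z]
  exact z_mem

theorem z_mem_WL : D.z ∈ WL D := by
  show D.φL D.z ∈ W
  rw [φL_z]
  exact le_ext2 z_mem

/-- no element of prime order at least five centralizes `W` -/
theorem no_cent (h : Cfsg.Spor.IsoHS L) (f : L) (hp : (orderOf f).Prime) (h5 : 5 ≤ orderOf f) :
    ¬ WL D ≤ centralizer {f} := by
  have hf := D.finite
  intro hle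
  have h1 : D.z * f = f * D.z := mem_centralizer_singleton_iff.1 (hle (z_mem_WL D))
  have h2 : f ∈ centralizer ({D.z} : Set L) := mem_centralizer_singleton_iff.2 h1.symm
  have h3 : orderOf f ∣ 7680 := by
    rw [← D.card_centralizer, ← Subgroup.orderOf_mk f h2]
    exact orderOf_dvd_natCard _
  have h4 : orderOf f = 5 := by
    have h6 : orderOf f ∣ 2 ^ 9 * (3 * 5) := h3
    rcases hp.dvd_mul.1 h6 with h | h
    · have := Nat.le_of_dvd (by norm_num) (hp.dvd_of_dvd_pow h)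
      omega
    · rcases hp.dvd_mul.1 h with h | h
      · have := Nat.le_of_dvd (by norm_num) h
        omega
      · have := Nat.le_of_dvd (by norm_num) h
        omega
  apply CpAutHSFive.not_eight h h4
  rw [← card_WL D]
  exact card_dvd_of_le hle

variable {π : Set ℕ}

theorem z_fix {f : L} (hf : f ∈ normalizer (VL D : Set L)) (hp : (orderOf f).Prime) (h5 : 5 ≤ orderOf f) :
    D.z * f = f * D.z :=
  mem_centralizer_singleton_iff.1 (cent_of_four hp h5 (pow_orderOf_eq_one f) (card_VL D) hf (z_mem_VL D))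

theorem pi_P1 (h : Cfsg.Spor.IsoHS L) (h2 : 2 ∈ π) (h3 : 3 ∈ π) : IsPiSubgroup π (P1 D) := by
  have hf := D.finite
  refine isPi_of_eight h2 h3 (card_WL D) (no_cent D h) inf_le_right fun f hf _ _ => ⟨D.z, z_mem_WL D, D.z1, ?_⟩
  exact (mem_centralizer_singleton_iff.1 hf.1).symm

theorem pi_P2 (h : Cfsg.Spor.IsoHS L) (h2 : 2 ∈ π) (h3 : 3 ∈ π) : IsPiSubgroup π (P2 D) := by
  have hf := D.finite
  refine isPi_of_eight h2 h3 (card_WL D) (no_cent D h) inf_le_right fun f hf hp h5 => ⟨D.z, z_mem_WL D, D.z1, ?_⟩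
  exact z_fix D hf.1 hp h5

theorem isPi_T (h2 : 2 ∈ π) (hs : QTNorm.SelfN L) : IsPiSubgroup π (normalizer ((T D : Subgroup L) : Set L)) := by
  have hf := D.finite
  refine pi_mono (hs (T D)) ?_
  intro p hp hd
  obtain ⟨n, hn⟩ := IsPGroup.iff_card.1 (T D).isPGroup'
  rw [hn] at hd
  rw [(Nat.prime_dvd_prime_iff_eq hp Nat.prime_two).1 (hp.dvd_of_dvd_pow hd)]
  exact h2

include D in
theorem seven_mem (h : Cfsg.Spor.IsoHS L) (h2 : 2 ∈ π) (h3 : 3 ∈ π) (hD : DC π L) : 7 ∈ π := by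
  have hf := D.finite
  have hF : Fact (Nat.Prime 2) := ⟨Nat.prime_two⟩
  have h1 := hD.sup_overgroups (T D) (isPi_T D h2 (QTNorm.HSRow.selfN_hs h)) (pi_P1 D h h2 h3) (pi_P2 D h h2 h3)
    (T_le_P1 D) (T_le_P2 D)
  have h4 : g1 D * g2 D ∈ P1 D ⊔ P2 D := mul_mem (mem_sup_left (g1_mem D)) (mem_sup_right (g2_mem D))
  refine h1 7 (by norm_num) ?_
  rw [← order_seven D, ← Subgroup.orderOf_mk _ h4]
  exact orderOf_dvd_natCard _

include D in
/-- the case `5 ∈ π` -/
theorem all_of_five (h : Cfsg.Spor.IsoHS L) (h2 : 2 ∈ π) (h3 : 3 ∈ π) (h5 : 5 ∈ π) (hD : DC π L) : PiGrp π L := by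
  have hf := D.finite
  have hF : Fact (Nat.Prime 2) := ⟨Nat.prime_two⟩
  have hprime : ∀ p : ℕ, p.Prime → p ∣ 7680 → p ∈ π := by
    intro p hp hd
    have h6 : p ∣ 2 ^ 9 * (3 * 5) := hd
    rcases hp.dvd_mul.1 h6 with h | h
    · rw [(Nat.prime_dvd_prime_iff_eq hp Nat.prime_two).1 (hp.dvd_of_dvd_pow h)]
      exact h2
    · rcases hp.dvd_mul.1 h with h | h
      · rw [(Nat.prime_dvd_prime_iff_eq hp Nat.prime_three).1 h]; exact h3
      · rw [(Nat.prime_dvd_prime_iff_eq hp Nat.prime_five).1 h]; exact h5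
  have hX : IsPiSubgroup π (centralizer ({D.z} : Set L)) := by
    intro p hp hd
    rw [D.card_centralizer] at hd
    exact hprime p hp hd
  have hY : IsPiSubgroup π (normalizer (VL D : Set L)) := by
    intro r hr hd
    have hfr : Fact r.Prime := ⟨hr⟩
    rcases Nat.lt_or_ge r 5 with h6 | h6
    · have : r = 2 ∨ r = 3 := by
        have := hr.two_le
        interval_cases r
        · exact Or.inl rfl
        · exact Or.inr rfl
        · exact absurd hr (by norm_num)
      rcases this with rfl | rfl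
      · exact h2
      · exact h3
    · obtain ⟨f, hf⟩ := exists_prime_orderOf_dvd_card' r hd
      have hf' : orderOf (f : L) = r := by rw [Subgroup.orderOf_coe, hf]
      have h7 := z_fix D f.2 (by rw [hf']; exact hr) (by rw [hf']; exact h6)
      have h8 : (f : L) ∈ centralizer ({D.z} : Set L) := mem_centralizer_singleton_iff.2 h7.symm
      apply hprime r hr
      rw [← hf', ← D.card_centralizer, ← Subgroup.orderOf_mk (f : L) h8]
      exact orderOf_dvd_natCard _
  have h9 := hD.sup_overgroups (T D) (isPi_T D h2 (QTNorm.HSRow.selfN_hs h)) hX hY (T_le_C D) (T_le D)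
  rw [QTUnique.HS.eq_top D le_sup_left le_sup_right] at h9
  intro p hp hd
  exact h9 p hp (by rwa [card_top])

end

theorem row_HS {S : Type*} [Group S] [Finite S] (h : Cfsg.Spor.IsoHS S) {π : Set ℕ} (h2 : 2 ∈ π) (h3 : 3 ∈ π)
    (hD : DC π S) : PiGrp π S := by
  obtain ⟨D⟩ := exists_mod h
  by_cases h5 : 5 ∈ π
  · exact all_of_five D h h2 h3 h5 hD
  exfalso
  have h7 := seven_mem D h h2 h3 hD
  have hF7 : Fact (Nat.Prime 7) := ⟨by norm_num⟩
  have hS : Nat.card S = 44352000 := NotCT.Orders.hs h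
  obtain ⟨P⟩ : Nonempty (Sylow 7 S) := inferInstance
  have hP : Nat.card (P : Subgroup S) = 7 := by
    rw [Sylow.card_eq_multiplicity, hS]
    have : (44352000 : ℕ).factorization 7 = 1 := by
      rw [show (44352000 : ℕ) = 7 ^ 1 * 6336000 by norm_num, Nat.factorization_mul (by norm_num) (by norm_num),
        Nat.Prime.factorization_pow (by norm_num)]
      simp only [Finsupp.add_apply, Finsupp.single_eq_same]
      rw [Nat.factorization_eq_zero_of_not_dvd (by norm_num)]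
    rw [this, pow_one]
  have hN := (H846.PB.hs_seven' h P hP).2
  have hNpi : IsPiSubgroup π (normalizer ((P : Subgroup S) : Set S)) := by
    intro p hp hd
    rw [hN] at hd
    have h6 : p ∣ 2 * (3 * 7) := hd
    rcases hp.dvd_mul.1 h6 with h | h
    · rw [(Nat.prime_dvd_prime_iff_eq hp Nat.prime_two).1 h]; exact h2
    · rcases hp.dvd_mul.1 h with h | h
      · rw [(Nat.prime_dvd_prime_iff_eq hp Nat.prime_three).1 h]; exact h3
      · rw [(Nat.prime_dvd_prime_iff_eq hp (by norm_num)).1 h]; exact h7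
  obtain ⟨H, hH⟩ := hD.exists_hall
  obtain ⟨n, hn, hc⟩ := hall_count hD P hNpi hH
  rw [hN] at hc
  have hmul := Subgroup.card_mul_index H
  rw [hS] at hmul
  have h2i : ¬ 2 ∣ H.index := fun hd => hH.2 2 (by norm_num) h2 hd
  have h3i : ¬ 3 ∣ H.index := fun hd => hH.2 3 (by norm_num) h3 hd
  have h5c : ¬ 5 ∣ Nat.card H := fun hd => h5 (hH.1 5 (by norm_num) hd)
  have e1 : n * H.index = 1056000 := by
    have : n * 42 * H.index = 44352000 := by rw [← hc]; exact hmul
    nlinarith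
  have h5n : ¬ 5 ∣ n := fun hd => h5c (by rw [hc]; exact Dvd.dvd.mul_right hd _)
  generalize H.index = m at *
  -- `m = 125 k`, `k ∣ 11`
  have hm1 : 5 ^ 3 ∣ m := by
    have hcop : Nat.Coprime (5 ^ 3) n := Nat.Coprime.pow_left 3 ((Nat.Prime.coprime_iff_not_dvd (by norm_num)).2 h5n)
    refine hcop.dvd_of_dvd_mul_left ?_
    rw [e1]; norm_num
  obtain ⟨k, rfl⟩ := hm1
  have e2 : n * k = 8448 := by nlinarith
  have hk2 : Nat.Coprime k (2 ^ 8) := Nat.Coprime.pow_right 8
    ((Nat.Prime.coprime_iff_not_dvd (by norm_num)).2 fun h => h2i (Dvd.dvd.mul_left h _)).symm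
  have hk3 : Nat.Coprime k 3 :=
    ((Nat.Prime.coprime_iff_not_dvd (by norm_num)).2 fun h => h3i (Dvd.dvd.mul_left h _)).symm
  have hk : k ∣ 11 := by
    have h8 : k ∣ 2 ^ 8 * (3 * 11) := ⟨n, by rw [mul_comm k n, e2]; norm_num⟩
    exact hk3.dvd_of_dvd_mul_left (hk2.dvd_of_dvd_mul_left h8)
  have hn' : n % 7 = 1 := hn
  rcases (Nat.dvd_prime (by norm_num)).1 hk with rfl | rfl
  · omega
  · omega

end Cfsg.Agent.H555.PiBS.HS
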